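import Cfsg.Agent.HSRecog.Cert6.RuleData

/-! Generated by tools/dcoset/emit.py: step words. -/

set_option Elab.async false

namespace Cfsg.Agent.HSRecog.Cert6

open Cfsg.Agent.DCoset Cfsg.Agent.CosetCert

def argWS_1 : Store := (.node 12 (.node 6 (.node 3 (.node 1 (.leaf 0x1) (.node 2 (.leaf 0x20001) (.leaf 0x40001))) (.node 4 (.leaf 0x60001) (.node 5 (.leaf 0x20001) (.leaf 0x0)))) (.node 9 (.node 7 (.leaf 0x20001) (.node 8 (.leaf 0x0) (.leaf 0x1))) (.node 10 (.leaf 0x0) (.node 11 (.leaf 0x40001) (.leaf 0x0))))) (.node 18 (.node 15 (.node 13 (.leaf 0x20001) (.node 14 (.leaf 0x0) (.leaf 0x1))) (.node 16 (.leaf 0x0) (.node 17 (.leaf 0x1) (.leaf 0x0)))) (.node 21 (.node 19 (.leaf 0x60002) (.node 20 (.leaf 0x0) (.leaf 0x20001))) (.node 23 (.node 22 (.leaf 0x0) (.leaf 0x2060002)) (.node 24 (.leaf 0x0) (.leaf 0x1))))))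

def argWS_2 : Store := (.node 37 (.node 31 (.node 28 (.node 26 (.leaf 0x0) (.node 27 (.leaf 0x40002) (.leaf 0x0))) (.node 29 (.leaf 0x40002) (.node 30 (.leaf 0x0) (.leaf 0x4020003)))) (.node 34 (.node 32 (.leaf 0x0) (.node 33 (.leaf 0x60001) (.leaf 0x0))) (.node 35 (.leaf 0x10604020004) (.node 36 (.leaf 0x0) (.leaf 0x20001))))) (.node 43 (.node 40 (.node 38 (.leaf 0x0) (.node 39 (.leaf 0x2040002) (.leaf 0x0))) (.node 41 (.leaf 0x40001) (.node 42 (.leaf 0x0) (.leaf 0x4020002)))) (.node 46 (.node 44 (.leaf 0x0) (.node 45 (.leaf 0x4020002) (.leaf 0x0))) (.node 48 (.node 47 (.leaf 0x2040002) (.leaf 0x0)) (.node 49 (.leaf 0x60002) (.leaf 0x0))))))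

def argWS_3 : Store := (.node 25 argWS_1 argWS_2)

def argWS_4 : Store := (.node 62 (.node 56 (.node 53 (.node 51 (.leaf 0x6020003) (.node 52 (.leaf 0x0) (.leaf 0x60001))) (.node 54 (.leaf 0x0) (.node 55 (.leaf 0x10001) (.leaf 0x0)))) (.node 59 (.node 57 (.leaf 0x10001) (.node 58 (.leaf 0x0) (.leaf 0x1040002))) (.node 60 (.leaf 0x0) (.node 61 (.leaf 0x60002) (.leaf 0x0))))) (.node 68 (.node 65 (.node 63 (.leaf 0x6020003) (.node 64 (.leaf 0x0) (.leaf 0x10604020004))) (.node 66 (.leaf 0x0) (.node 67 (.leaf 0x1050306030005) (.leaf 0x0)))) (.node 71 (.node 69 (.leaf 0x2040002) (.node 70 (.leaf 0x0) (.leaf 0x303040003))) (.node 73 (.node 72 (.leaf 0x0) (.leaf 0x6020003)) (.node 74 (.leaf 0x0) (.leaf 0x200020006020402060303000b))))))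

def argWS_5 : Store := (.node 88 (.node 81 (.node 78 (.node 76 (.leaf 0x0) (.node 77 (.leaf 0x303040003) (.leaf 0x0))) (.node 79 (.leaf 0x303010306030006) (.node 80 (.leaf 0x0) (.leaf 0x303010306030006)))) (.node 84 (.node 82 (.leaf 0x0) (.node 83 (.leaf 0x60000020002060202060304000c) (.leaf 0x0))) (.node 86 (.node 85 (.leaf 0x200020006020402060303000b) (.leaf 0x0)) (.node 87 (.leaf 0x40300000306040007) (.leaf 0x0))))) (.node 94 (.node 91 (.node 89 (.leaf 0x4020002) (.node 90 (.leaf 0x0) (.leaf 0x206050003))) (.node 92 (.leaf 0x0) (.node 93 (.leaf 0x1050306030005) (.leaf 0x0)))) (.node 97 (.node 95 (.leaf 0x1020103050306030008) (.node 96 (.leaf 0x0) (.leaf 0x6020003))) (.node 99 (.node 98 (.leaf 0x0) (.leaf 0x4000200030604020008)) (.node 100 (.leaf 0x0) (.leaf 0x60001))))))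

def argWS_6 : Store := (.node 75 argWS_4 argWS_5)

def argWS_7 : Store := (.node 50 argWS_3 argWS_6)

def argWS_8 : Store := (.node 113 (.node 107 (.node 104 (.node 102 (.leaf 0x0) (.node 103 (.leaf 0x6040003) (.leaf 0x0))) (.node 105 (.leaf 0x206050003) (.node 106 (.leaf 0x0) (.leaf 0x10300030503060007)))) (.node 110 (.node 108 (.leaf 0x0) (.node 109 (.leaf 0x6040003) (.leaf 0x0))) (.node 111 (.leaf 0x6050004) (.node 112 (.leaf 0x0) (.leaf 0x2060002))))) (.node 119 (.node 116 (.node 114 (.leaf 0x0) (.node 115 (.leaf 0x50000020002060202060304000c) (.leaf 0x0))) (.node 117 (.leaf 0x1040002) (.node 118 (.leaf 0x0) (.leaf 0x3010301060005)))) (.node 122 (.node 120 (.leaf 0x0) (.node 121 (.leaf 0x10300030503060007) (.leaf 0x0))) (.node 124 (.node 123 (.leaf 0x400030002060402060303000b) (.leaf 0x0)) (.node 125 (.leaf 0x40300000306040007) (.leaf 0x0))))))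

def argWS_9 : Store := (.node 139 (.node 132 (.node 129 (.node 127 (.leaf 0x403000006020605030009) (.node 128 (.leaf 0x0) (.leaf 0x4000200030604020008))) (.node 130 (.leaf 0x0) (.node 131 (.leaf 0x3060002000605030008) (.leaf 0x0)))) (.node 135 (.node 133 (.leaf 0x0) (.node 134 (.leaf 0x6000301020603030008) (.leaf 0x6000301020603030008))) (.node 137 (.node 136 (.leaf 0x0) (.leaf 0x0)) (.node 138 (.leaf 0x402040003) (.leaf 0x402040003))))) (.node 145 (.node 142 (.node 140 (.leaf 0x0) (.node 141 (.leaf 0x20001) (.leaf 0x0))) (.node 143 (.leaf 0x2000002) (.node 144 (.leaf 0x0) (.leaf 0x20001)))) (.node 148 (.node 146 (.leaf 0x0) (.node 147 (.leaf 0x2020002) (.leaf 0x0))) (.node 150 (.node 149 (.leaf 0x202040003) (.leaf 0x0)) (.node 151 (.leaf 0x200020003) (.leaf 0x0))))))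

def argWS_10 : Store := (.node 126 argWS_8 argWS_9)

def argWS_11 : Store := (.node 164 (.node 158 (.node 155 (.node 153 (.leaf 0x200020003) (.node 154 (.leaf 0x0) (.leaf 0x2000002))) (.node 156 (.leaf 0x0) (.node 157 (.leaf 0x200040003) (.leaf 0x0)))) (.node 161 (.node 159 (.leaf 0x20004020004) (.node 160 (.leaf 0x0) (.leaf 0x2000402040005))) (.node 162 (.leaf 0x0) (.node 163 (.leaf 0x20002020004) (.leaf 0x0))))) (.node 170 (.node 167 (.node 165 (.leaf 0x20002000004) (.node 166 (.leaf 0x0) (.leaf 0x3040002))) (.node 168 (.leaf 0x0) (.node 169 (.leaf 0x0) (.leaf 0x0)))) (.node 173 (.node 171 (.leaf 0x300040003) (.node 172 (.leaf 0x0) (.leaf 0x0))) (.node 175 (.node 174 (.leaf 0x3010303050005) (.leaf 0x300050003)) (.node 176 (.leaf 0x0) (.leaf 0xb09080d0004))))))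

def argWS_12 : Store := (.node 190 (.node 183 (.node 180 (.node 178 (.leaf 0x0) (.node 179 (.leaf 0x0) (.leaf 0x2000200020005))) (.node 181 (.leaf 0x0) (.node 182 (.leaf 0x0) (.leaf 0x4030104030005)))) (.node 186 (.node 184 (.leaf 0x200020002060006) (.node 185 (.leaf 0x0) (.leaf 0xb0f0c0a0004))) (.node 188 (.node 187 (.leaf 0x0) (.leaf 0x0)) (.node 189 (.leaf 0x0) (.leaf 0x0))))) (.node 196 (.node 193 (.node 191 (.leaf 0x104020603030006) (.node 192 (.leaf 0x0) (.leaf 0x0))) (.node 194 (.leaf 0x403000002060305030603000b) (.node 195 (.leaf 0x403000002060305030603000b) (.leaf 0x0)))) (.node 199 (.node 197 (.leaf 0x2020603040007) (.node 198 (.leaf 0x0) (.leaf 0x403000002060305030603000b))) (.node 201 (.node 200 (.leaf 0x0) (.leaf 0x6030604020006)) (.node 202 (.leaf 0x0) (.leaf 0x0))))))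

def argWS_13 : Store := (.node 177 argWS_11 argWS_12)

def argWS_14 : Store := (.node 152 argWS_10 argWS_13)

def argWS_15 : Store := (.node 101 argWS_7 argWS_14)

def argWS_16 : Store := (.node 215 (.node 209 (.node 206 (.node 204 (.leaf 0x50102000003060305030603000c) (.node 205 (.leaf 0x0) (.leaf 0xa0b0002))) (.node 207 (.leaf 0x30001) (.node 208 (.leaf 0x0) (.leaf 0x0)))) (.node 212 (.node 210 (.leaf 0x0) (.node 211 (.leaf 0x0) (.leaf 0x40200000206030007))) (.node 213 (.leaf 0xb070d0003) (.node 214 (.leaf 0x0) (.leaf 0x602000306040006))))) (.node 221 (.node 218 (.node 216 (.leaf 0x401030102060402060303000b) (.node 217 (.leaf 0x0) (.leaf 0x80f0e0a0004))) (.node 219 (.leaf 0x0) (.node 220 (.leaf 0xda) (.leaf 0x0)))) (.node 224 (.node 222 (.leaf 0x202000002060202020603000b) (.node 223 (.leaf 0x500000201030006) (.leaf 0x0))) (.node 226 (.node 225 (.leaf 0x0) (.leaf 0x0)) (.node 227 (.leaf 0x80f0c0d0004) (.leaf 0x0))))))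

def argWS_17 : Store := (.node 241 (.node 234 (.node 231 (.node 229 (.leaf 0x40001) (.node 230 (.leaf 0x0) (.leaf 0xa0b090f0c0d0006))) (.node 232 (.leaf 0x301030003) (.node 233 (.leaf 0x0) (.leaf 0x0)))) (.node 237 (.node 235 (.leaf 0x6030604020006) (.node 236 (.leaf 0x0) (.leaf 0x0))) (.node 239 (.node 238 (.leaf 0x50001) (.leaf 0x10300000206040007)) (.node 240 (.leaf 0x0) (.leaf 0xb09080f0d0c0006))))) (.node 247 (.node 244 (.node 242 (.leaf 0x301030003) (.node 243 (.leaf 0x0) (.leaf 0x0))) (.node 245 (.leaf 0x0) (.node 246 (.leaf 0x0) (.leaf 0x6020603030007)))) (.node 250 (.node 248 (.leaf 0x0) (.node 249 (.leaf 0x0) (.leaf 0x1020000030602060303000a))) (.node 252 (.node 251 (.leaf 0x0) (.leaf 0x0)) (.node 253 (.leaf 0x0) (.leaf 0x0))))))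

def argWS_18 : Store := (.node 228 argWS_16 argWS_17)

def argWS_19 : Store := (.node 266 (.node 260 (.node 257 (.node 255 (.leaf 0x6020603030007) (.node 256 (.leaf 0x0) (.leaf 0xf0e0002))) (.node 258 (.leaf 0x30001) (.node 259 (.leaf 0x0) (.leaf 0x0)))) (.node 263 (.node 261 (.leaf 0x0) (.node 262 (.leaf 0x0) (.leaf 0x6050002))) (.node 264 (.leaf 0x0) (.node 265 (.leaf 0x2020603050006) (.leaf 0x20003040006))))) (.node 272 (.node 269 (.node 267 (.leaf 0x0) (.node 268 (.leaf 0x90e0a0003) (.leaf 0x0))) (.node 270 (.leaf 0x0) (.node 271 (.leaf 0x103050306030006) (.leaf 0x2010200040603030008)))) (.node 275 (.node 273 (.leaf 0x0) (.node 274 (.leaf 0xb0f0d0003) (.leaf 0x0))) (.node 277 (.node 276 (.leaf 0xa0001) (.leaf 0x113000112)) (.node 278 (.leaf 0x7070002) (.leaf 0x0))))))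

def argWS_20 : Store := (.node 292 (.node 285 (.node 282 (.node 280 (.leaf 0xc0001) (.node 281 (.leaf 0x20001) (.leaf 0x0))) (.node 283 (.leaf 0x0) (.node 284 (.leaf 0x0) (.leaf 0x50001)))) (.node 288 (.node 286 (.leaf 0x402000602050306030009) (.node 287 (.leaf 0x0) (.leaf 0xc090002))) (.node 290 (.node 289 (.leaf 0x0) (.leaf 0x0)) (.node 291 (.leaf 0x0) (.leaf 0x0))))) (.node 298 (.node 295 (.node 293 (.leaf 0x30001) (.node 294 (.leaf 0x20001) (.leaf 0x0))) (.node 296 (.leaf 0x0) (.node 297 (.leaf 0xa0b0002) (.leaf 0x0)))) (.node 301 (.node 299 (.leaf 0x0) (.node 300 (.leaf 0x0) (.leaf 0x602020603050008))) (.node 303 (.node 302 (.leaf 0x402000004020202060305000b) (.leaf 0x0)) (.node 304 (.leaf 0x0) (.leaf 0x0))))))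

def argWS_21 : Store := (.node 279 argWS_19 argWS_20)

def argWS_22 : Store := (.node 254 argWS_18 argWS_21)

def argWS_23 : Store := (.node 317 (.node 311 (.node 308 (.node 306 (.leaf 0x7070a0003) (.node 307 (.leaf 0x6020603030007) (.leaf 0x0))) (.node 309 (.leaf 0x0) (.node 310 (.leaf 0x10200000605030007) (.leaf 0x401030006040006)))) (.node 314 (.node 312 (.leaf 0x0) (.node 313 (.leaf 0xb09070d0a0005) (.leaf 0x0))) (.node 315 (.leaf 0x0) (.node 316 (.leaf 0x10200000605030007) (.leaf 0x400030106040006))))) (.node 323 (.node 320 (.node 318 (.leaf 0x0) (.node 319 (.leaf 0x80d0a0003) (.leaf 0x0))) (.node 321 (.leaf 0x13f) (.node 322 (.leaf 0x0) (.leaf 0x10200000605030007)))) (.node 326 (.node 324 (.leaf 0x4010301020605030008) (.node 325 (.leaf 0x0) (.leaf 0xb09070d0004))) (.node 328 (.node 327 (.leaf 0x0) (.leaf 0x0)) (.node 329 (.leaf 0x0) (.leaf 0x20004020603030009))))))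

def argWS_24 : Store := (.node 343 (.node 336 (.node 333 (.node 331 (.leaf 0xa0b0a0003) (.node 332 (.leaf 0x0) (.leaf 0x0))) (.node 334 (.leaf 0x0) (.node 335 (.leaf 0x0) (.leaf 0x400030102050306030009)))) (.node 339 (.node 337 (.leaf 0x80a0e0003) (.node 338 (.leaf 0x0) (.leaf 0x0))) (.node 341 (.node 340 (.leaf 0x0) (.leaf 0x403000002060305030603000b)) (.node 342 (.leaf 0x0) (.leaf 0x0))))) (.node 349 (.node 346 (.node 344 (.leaf 0x2020603050006) (.node 345 (.leaf 0x30600020003060202020603000c) (.leaf 0x0))) (.node 347 (.leaf 0xb09070f0e0005) (.node 348 (.leaf 0x30001) (.leaf 0x0)))) (.node 352 (.node 350 (.leaf 0x0) (.node 351 (.leaf 0x0) (.leaf 0x3000604020006))) (.node 354 (.node 353 (.leaf 0x301020003) (.leaf 0x0)) (.node 355 (.leaf 0x70f0e0a0004) (.leaf 0x0))))))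

def argWS_25 : Store := (.node 330 argWS_23 argWS_24)

def argWS_26 : Store := (.node 368 (.node 362 (.node 359 (.node 357 (.leaf 0x0) (.node 358 (.leaf 0x0) (.leaf 0x0))) (.node 360 (.leaf 0x401020003050006) (.node 361 (.leaf 0x0) (.leaf 0x0)))) (.node 365 (.node 363 (.leaf 0x20001) (.node 364 (.leaf 0x0) (.leaf 0x2000002))) (.node 366 (.leaf 0x0) (.node 367 (.leaf 0x200040003) (.leaf 0x0))))) (.node 374 (.node 371 (.node 369 (.leaf 0x20004020004) (.node 370 (.leaf 0x0) (.leaf 0x2000402040005))) (.node 372 (.leaf 0x0) (.node 373 (.leaf 0x0) (.leaf 0x602000306040006)))) (.node 377 (.node 375 (.leaf 0x6020003050005) (.node 376 (.leaf 0x0) (.leaf 0x0))) (.node 379 (.node 378 (.leaf 0x0) (.leaf 0xf0001)) (.node 380 (.leaf 0x2000002) (.leaf 0x0))))))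

def argWS_27 : Store := (.node 394 (.node 387 (.node 384 (.node 382 (.leaf 0x200020003) (.node 383 (.leaf 0x0) (.leaf 0x20002040004))) (.node 385 (.leaf 0x0) (.node 386 (.leaf 0x30001) (.leaf 0x0)))) (.node 390 (.node 388 (.leaf 0xc090002) (.node 389 (.leaf 0x0) (.leaf 0x0))) (.node 392 (.node 391 (.leaf 0x30001) (.leaf 0x0)) (.node 393 (.leaf 0x0) (.leaf 0x0))))) (.node 400 (.node 397 (.node 395 (.leaf 0x602000206030603050306000b) (.node 396 (.leaf 0x4030103060005) (.leaf 0x0))) (.node 398 (.leaf 0xf0e0a0003) (.node 399 (.leaf 0x0) (.leaf 0x0)))) (.node 403 (.node 401 (.leaf 0x0) (.node 402 (.leaf 0x0) (.leaf 0x10604020603030007))) (.node 405 (.node 404 (.leaf 0x0) (.leaf 0x0)) (.node 406 (.leaf 0xa0b0f0a0e0005) (.leaf 0x0))))))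

def argWS_28 : Store := (.node 381 argWS_26 argWS_27)

def argWS_29 : Store := (.node 356 argWS_25 argWS_28)

def argWS_30 : Store := (.node 305 argWS_22 argWS_29)

def argWS : Store := (.node 203 argWS_15 argWS_30)

def nodeSrcS : Store := (.leaf 0x3000200020001000100000000)

noncomputable def nodeSrc : Nat → Nat := get16 nodeSrcS

def nodeWS : Store := (.node 3 (.node 1 (.leaf 0x0) (.node 2 (.leaf 0x0) (.leaf 0x30001))) (.node 5 (.node 4 (.leaf 0x301030003) (.leaf 0x30001)) (.node 6 (.leaf 0x3010002) (.leaf 0x30001))))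

def nodeTS : Store := (.leaf 0x1000100010001000100010000)

noncomputable def nodeT : Nat → Nat := get16 nodeTS


end Cfsg.Agent.HSRecog.Cert6
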